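import Cfsg.Agent.OD.Pre
import Cfsg.Agent.H6.Top2
import Cfsg.Agent.H6.C3A.D0
set_option autoImplicit false
set_option maxRecDepth 100000
set_option Elab.async false
set_option linter.all false
namespace CfH6.C3A
open CfH6 MulAction
noncomputable def n0_0 : Net := mkNet (nat_lit 384) [(nat_lit 192, k0), (nat_lit 96, k1), (nat_lit 48, k2), (nat_lit 24, k3), (nat_lit 12, k4), (nat_lit 6, k5), (nat_lit 3, k6)] [(k7, nat_lit 1), (k8, nat_lit 1), (k9, nat_lit 1)]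
noncomputable def n0_1 : Net := mkNet (nat_lit 384) [(nat_lit 192, k10), (nat_lit 96, k11), (nat_lit 48, k12), (nat_lit 24, k13), (nat_lit 12, k14), (nat_lit 6, k15), (nat_lit 3, k16)] [(k17, nat_lit 1), (k18, nat_lit 1), (k19, nat_lit 1)]
noncomputable def n0_2 : Net := mkNet (nat_lit 384) [(nat_lit 192, k20), (nat_lit 96, k21), (nat_lit 48, k22), (nat_lit 24, k23), (nat_lit 12, k24), (nat_lit 6, k25), (nat_lit 3, k26)] [(k27, nat_lit 1), (k28, nat_lit 1), (k29, nat_lit 1)]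
noncomputable def n0_3 : Net := mkNet (nat_lit 384) [(nat_lit 192, k30), (nat_lit 96, k31), (nat_lit 48, k32), (nat_lit 24, k33), (nat_lit 12, k34), (nat_lit 6, k35), (nat_lit 3, k36)] [(k37, nat_lit 1), (k38, nat_lit 1), (k39, nat_lit 1)]
noncomputable def n0_4 : Net := mkNet (nat_lit 384) [(nat_lit 192, k40), (nat_lit 96, k41), (nat_lit 48, k42), (nat_lit 24, k43), (nat_lit 12, k44), (nat_lit 6, k45), (nat_lit 3, k46)] [(k47, nat_lit 1), (k48, nat_lit 1), (k49, nat_lit 1)]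
noncomputable def n0_5 : Net := mkNet (nat_lit 384) [(nat_lit 192, k50), (nat_lit 96, k51), (nat_lit 48, k52), (nat_lit 24, k53), (nat_lit 12, k54), (nat_lit 6, k55), (nat_lit 3, k56)] [(k57, nat_lit 1), (k58, nat_lit 1), (k59, nat_lit 1)]
noncomputable def n0_6 : Net := mkNet (nat_lit 384) [(nat_lit 192, k60), (nat_lit 96, k61), (nat_lit 48, k62), (nat_lit 24, k63), (nat_lit 12, k64), (nat_lit 6, k65), (nat_lit 3, k66)] [(k67, nat_lit 1), (k68, nat_lit 1), (k69, nat_lit 1)]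
noncomputable def n0_7 : Net := mkNet (nat_lit 384) [(nat_lit 192, k70), (nat_lit 96, k71), (nat_lit 48, k72), (nat_lit 24, k73), (nat_lit 12, k74), (nat_lit 6, k75), (nat_lit 3, k76)] [(k77, nat_lit 1), (k78, nat_lit 1), (k79, nat_lit 1)]
noncomputable def n2_0 : Net := mkNet (nat_lit 160) [(nat_lit 80, k80), (nat_lit 40, k81), (nat_lit 20, k82), (nat_lit 10, k83), (nat_lit 5, k84)] [(k85, nat_lit 1), (k86, nat_lit 1), (k87, nat_lit 1), (k88, nat_lit 1), ((nat_lit 0x40000000020000040002000000), nat_lit 1)]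
noncomputable def n2_1 : Net := mkNet (nat_lit 160) [(nat_lit 80, k89), (nat_lit 40, k90), (nat_lit 20, k91), (nat_lit 10, k92), (nat_lit 5, k93)] [(k94, nat_lit 1), (k95, nat_lit 1), (k96, nat_lit 1), (k97, nat_lit 1), ((nat_lit 0x5010000000108000), nat_lit 1)]
noncomputable def n2_2 : Net := mkNet (nat_lit 160) [(nat_lit 80, k98), (nat_lit 40, k99), (nat_lit 20, k100), (nat_lit 10, k101), (nat_lit 5, k102)] [(k103, nat_lit 1), (k104, nat_lit 1), (k105, nat_lit 1), (k106, nat_lit 1), (k107, nat_lit 1)]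
noncomputable def n3_0 : Net := mkNet (nat_lit 48) [(nat_lit 24, (nat_lit 0x1da1001da100)), (nat_lit 12, (nat_lit 0x162068c00c10)), (nat_lit 6, (nat_lit 0x8a03ce41028a)), (nat_lit 3, (nat_lit 0x912204004210))] [((nat_lit 0x8048201240), nat_lit 1), ((nat_lit 0x80010412490), nat_lit 1), ((nat_lit 0x8201240), nat_lit 1)]
noncomputable def n3_1 : Net := mkNet (nat_lit 48) [(nat_lit 24, (nat_lit 0x728c00728c0)), (nat_lit 12, (nat_lit 0x74054920920)), (nat_lit 6, (nat_lit 0x410c7028a820)), (nat_lit 3, (nat_lit 0x48042492a800))] [((nat_lit 0x40000008008), nat_lit 1), ((nat_lit 0x2002412010), nat_lit 1), ((nat_lit 0x1008), nat_lit 1)]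
noncomputable def n3_2 : Net := mkNet (nat_lit 48) [(nat_lit 24, (nat_lit 0x3d41803d4180)), (nat_lit 12, (nat_lit 0x2723d6922922)), (nat_lit 6, (nat_lit 0x388db28108a2)), (nat_lit 3, (nat_lit 0x32a00836900))] [((nat_lit 0x8200001000), nat_lit 1), ((nat_lit 0x92002402090), nat_lit 1), ((nat_lit 0x8001000048), nat_lit 1)]
noncomputable def n4_0 : Net := mkNet (nat_lit 40) [(nat_lit 20, (nat_lit 0x6e8126c822)), (nat_lit 10, (nat_lit 0x3495e0c832)), (nat_lit 5, (nat_lit 0xa43ac25800))] [((nat_lit 0x200a008480), nat_lit 1), ((nat_lit 0x5014a52000), nat_lit 1), ((nat_lit 0x280a428000), nat_lit 1), ((nat_lit 0x10850000), nat_lit 1), ((nat_lit 0x8000), nat_lit 1)]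
noncomputable def n4_1 : Net := mkNet (nat_lit 40) [(nat_lit 20, (nat_lit 0xf6d00e7a0)), (nat_lit 10, (nat_lit 0x77dd204210)), (nat_lit 5, (nat_lit 0x9d23010000))] [((nat_lit 0x2102001020), nat_lit 1), ((nat_lit 0x5094012100), nat_lit 1), ((nat_lit 0x2848021080), nat_lit 1), ((nat_lit 0x1014000040), nat_lit 1), ((nat_lit 0x2000000), nat_lit 1)]
noncomputable def n5_0 : Net := mkNet (nat_lit 32) [(nat_lit 16, (nat_lit 0x3f003f80)), (nat_lit 8, (nat_lit 0x1018c202)), (nat_lit 4, (nat_lit 0x542090ec)), (nat_lit 2, (nat_lit 0x40440408))] [((nat_lit 0x10145004), nat_lit 1)]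
noncomputable def n5_1 : Net := mkNet (nat_lit 32) [(nat_lit 16, (nat_lit 0xb5d4a854)), (nat_lit 8, (nat_lit 0x3a905410)), (nat_lit 4, (nat_lit 0x6ce4cc44)), (nat_lit 2, (nat_lit 0x8248440))] [((nat_lit 0x40115050), nat_lit 1)]
noncomputable def n6_0 : Net := mkNet (nat_lit 10) [(nat_lit 5, (nat_lit 0))] [((nat_lit 0x40), nat_lit 1), ((nat_lit 0x80), nat_lit 1)]
noncomputable def nets0 : List Net := [n0_0, n0_1, n0_2, n0_3, n0_4, n0_5, n0_6, n0_7]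
noncomputable def nets1 : List Net := [n0_0, n0_1, n0_2, n0_3, n0_4, n0_5, n0_6]
def ws1 : List (List ℕ) := [[0],
  [1],
  [2],
  [3],
  [4],
  [5],
  [6]]
noncomputable def nets2 : List Net := [n2_0, n2_1, n2_2]
def ws2 : List (List ℕ) := [[0, 2, 5, 6, 2, 5, 0],
  [3, 5, 3, 4],
  [2]]
noncomputable def nets3 : List Net := [n3_0, n3_1, n3_2]
def ws3 : List (List ℕ) := [[0, 1, 0, 1, 0, 2, 0, 1, 2, 0, 1],
  [1, 2, 1, 1],
  [2, 1, 2]]
noncomputable def nets4 : List Net := [n4_0, n4_1]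
def ws4 : List (List ℕ) := [[2, 0, 0, 0, 1, 2, 0, 2, 2, 0, 0],
  [0, 2]]
noncomputable def nets5 : List Net := [n5_0, n5_1]
def ws5 : List (List ℕ) := [[0, 0, 1, 0, 0, 0, 1, 1, 0],
  [1, 0, 0, 1, 0, 0, 1, 0]]
noncomputable def nets6 : List Net := [n6_0]
def ws6 : List (List ℕ) := [[0, 0, 1, 0, 1, 0]]
def sig : List (List ℕ) := [[0],
  [1],
  [2],
  [3],
  [4],
  [5],
  [6],
  [7]]
def eqs0 : List (List ℕ × List ℕ) := [([0, 0], []),
  ([1, 1], []),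
  ([2, 2], []),
  ([3, 3], []),
  ([4, 4], []),
  ([5, 5], []),
  ([6, 6], []),
  ([7, 7], []),
  ([0, 1], [1, 0]),
  ([0, 2, 0], [2, 0, 2]),
  ([0, 3], [3, 0]),
  ([0, 4], [4, 0]),
  ([0, 5, 0], [5, 0, 5]),
  ([0, 6, 0, 6, 0, 6, 0, 6], [6, 0, 6, 0, 6, 0, 6, 0]),
  ([0, 7, 0], [7, 0, 7]),
  ([1, 2, 1], [2, 1, 2]),
  ([1, 3, 1, 3], [3, 1, 3, 1]),
  ([1, 4], [4, 1]),
  ([1, 5, 1, 5], [5, 1, 5, 1]),
  ([1, 6, 1, 6, 1, 6], [6, 1, 6, 1, 6, 1]),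
  ([1, 7, 1], [7, 1, 7]),
  ([2, 3, 2], [3, 2, 3]),
  ([2, 4], [4, 2]),
  ([2, 5], [5, 2]),
  ([2, 6, 2, 6, 2, 6], [6, 2, 6, 2, 6, 2]),
  ([2, 7, 2, 7], [7, 2, 7, 2]),
  ([3, 4, 3], [4, 3, 4]),
  ([3, 5, 3], [5, 3, 5]),
  ([3, 6, 3, 6], [6, 3, 6, 3]),
  ([3, 7, 3], [7, 3, 7]),
  ([4, 5], [5, 4]),
  ([4, 6], [6, 4]),
  ([4, 7], [7, 4]),
  ([5, 6, 5, 6, 5, 6], [6, 5, 6, 5, 6, 5]),
  ([5, 7, 5], [7, 5, 7]),
  ([6, 7, 6, 7], [7, 6, 7, 6]),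
  ([1, 2, 3, 1, 2, 3, 1, 2], [3, 2, 1, 3, 2, 1, 3]),
  ([0, 1, 2, 3, 2, 0, 1, 2, 3, 2, 0, 1, 2], [2, 3, 2, 0, 1, 2, 3, 2, 0, 1, 2, 3]),
  ([0, 1, 2, 0, 1, 3, 1, 2, 0, 1, 3, 1, 2], [3, 1, 2, 0, 1, 3, 1, 2, 0, 1, 3, 1]),
  ([1, 3, 1, 3, 4], [4, 3, 1, 3]),
  ([0, 1, 2, 0, 3, 1, 3, 2, 5, 0, 1, 3], [3, 1, 3, 2, 5, 0, 3, 1, 2, 3, 2, 1]),
  ([1, 3, 5, 1, 3], [5, 3, 1, 5]),
  ([0, 1, 2, 0], [7, 2, 7, 1]),
  ([1, 2, 3, 6, 3], [3, 6, 3, 1, 2]),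
  ([0, 1, 6], [6, 5]),
  ([0, 6, 0, 6, 0, 7], [7, 6, 0, 7, 0, 6]),
  ([1, 2, 1, 3, 1, 2, 1, 7, 2], [7, 3, 2, 1, 3, 1, 2, 3]),
  ([1, 6], [6, 2]),
  ([6, 7, 5, 1, 7, 3, 4, 6, 7, 5, 1, 7, 3, 4, 6, 7, 5, 1], [4, 3, 7, 1, 5, 7, 6, 4, 3, 7, 1, 5, 7, 6, 4, 3, 7])]
def eqs : List (List ℕ × List ℕ) := eqs0
def lU : List (ℕ × ℕ) := [(0, 9), (10, 20), (32, 2), (40, 2), (48, 81), (160, 162)]
noncomputable def U : ℕ := ivls lU
def l1 : List (ℕ × ℕ) := [(1, 8), (10, 20), (32, 2), (40, 2), (48, 81), (160, 162)]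
noncomputable def S1 : ℕ := ivls l1
def w1 : List ℕ := [7]
noncomputable def J : List (List ℕ × ℕ × ℕ) := [(w1, 1, S1)]
def lBig : List (ℕ × ℕ) := [(1, 8), (10, 20), (32, 2), (40, 2), (48, 81), (160, 162)]
noncomputable def J1 : List (List ℕ × ℕ × ℕ) := [([0], 1, S1)]
def ex : List (List ℕ) := [[4, 7, 6, 2, 3]]
def bs' : List ℕ := [0, 1, 2, 3, 4, 5, 6]
end CfH6.C3A
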